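import Cfsg.Agent.LieClassical.FieldTransfer
import Cfsg.Agent.ClassicalGeometry.PSL2ElemOrder
import Cfsg.Agent.H783.U34B
import Cfsg.Agent.H58.Rec.Outer_m3
import Cfsg.Agent.Prune
set_option linter.all false
prune_inst 0x7f00000000000000000000000000000000000000000000000000000000000000000000000000000000000000000000000000000000000000000000000000000000000000000000000000000000000000003fffffffffffffffffffffffffffbeffbdffffffff
open scoped Cfsg.Agent.FastGrp

/-!
# The Tits group is recognized by its element orders: elements of the other candidates (helper369)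

* `l43` : an element of order 9 of `L₄(3)`; `s45` : an element of order 15 of `S₄(5)`; `u34` : an element of order 15 of
  `U₃(4)`; `l25` : no elements of order 8 in `L₂(25)`.
-/

set_option autoImplicit false

namespace Cfsg.Agent.H369.Ti.Elts

open Matrix Cfsg Cfsg.Agent.H58.Rec Cfsg.Agent.LieClassical.FieldTransfer

/-! ### `PSL₄(3)` -/

/-- a regular unipotent matrix -/
def jM : Matrix (Fin 4) (Fin 4) (ZMod 3) := !![1, 1, 0, 0; 0, 1, 1, 0; 0, 0, 1, 1; 0, 0, 0, 1]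

/-- a regular unipotent matrix -/
def jS : Matrix.SpecialLinearGroup (Fin 4) (ZMod 3) := ⟨jM, by decide +kernel⟩

theorem coe_jS_pow (n : ℕ) : (jS ^ n).1 = jM ^ n := Matrix.SpecialLinearGroup.coe_pow _ _

theorem j9 : jM ^ 9 = 1 := by decide +kernel

theorem j3 : ∀ r : ZMod 3, Matrix.scalar (Fin 4) r ≠ jM ^ 3 := by decide +kernel

theorem l43' : HasOrd (Matrix.ProjectiveSpecialLinearGroup (Fin 4) (ZMod 3)) 9 := by
  have hp : Fact (Nat.Prime 3) := ⟨Nat.prime_three⟩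
  refine ⟨QuotientGroup.mk jS, ?_⟩
  refine orderOf_eq_prime_pow (p := 3) (n := 1) ?_ ?_
  · rw [← QuotientGroup.mk_pow, QuotientGroup.eq_one_iff, Matrix.SpecialLinearGroup.mem_center_iff]
    rintro ⟨r, -, hr⟩
    rw [pow_one] at hr
    exact j3 r (hr.trans (coe_jS_pow 3))
  · rw [← QuotientGroup.mk_pow]
    have h : jS ^ 3 ^ (1 + 1) = 1 := Subtype.ext ((coe_jS_pow _).trans j9)
    rw [h]
    rfl

theorem l43 {F : Type} [Field F] [Fintype F] (hF : Fintype.card F = 3) :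
    HasOrd (Matrix.ProjectiveSpecialLinearGroup (Fin 4) F) 9 :=
  l43'.congr (pslCongr (FiniteField.ringEquivOfCardEq (K := ZMod 3) (K' := F) (by rw [hF, ZMod.card])))

/-! ### `PSp₄(5)` -/

theorem ord_mk {G : Type*} [Group G] {x u v : G} (hx : x ^ 15 = 1) (h5 : x ^ 5 * u ≠ u * x ^ 5)
    (h3 : x ^ 3 * v ≠ v * x ^ 3) : HasOrd (G ⧸ Subgroup.center G) 15 := by
  refine ⟨QuotientGroup.mk x, ?_⟩
  have h0 : orderOf (QuotientGroup.mk x : G ⧸ Subgroup.center G) ∣ 15 :=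
    orderOf_dvd_of_pow_eq_one (by rw [← QuotientGroup.mk_pow, hx, QuotientGroup.mk_one])
  have n5 : ¬ orderOf (QuotientGroup.mk x : G ⧸ Subgroup.center G) ∣ 5 := by
    intro h
    have h1 := orderOf_dvd_iff_pow_eq_one.1 h
    rw [← QuotientGroup.mk_pow, QuotientGroup.eq_one_iff] at h1
    exact h5 (Subgroup.mem_center_iff.1 h1 u).symm
  have n3 : ¬ orderOf (QuotientGroup.mk x : G ⧸ Subgroup.center G) ∣ 3 := by
    intro h
    have h1 := orderOf_dvd_iff_pow_eq_one.1 h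
    rw [← QuotientGroup.mk_pow, QuotientGroup.eq_one_iff] at h1
    exact h3 (Subgroup.mem_center_iff.1 h1 v).symm
  generalize orderOf (QuotientGroup.mk x : G ⧸ Subgroup.center G) = n at h0 n5 n3
  have h1 : n ≤ 15 := Nat.le_of_dvd (by norm_num) h0
  interval_cases n <;> omega

instance fact5 : Fact (Nat.Prime 5) := ⟨Nat.prime_five⟩

/-- a symplectic matrix of order 15 -/
def sM : Matrix (Fin 2 ⊕ Fin 2) (Fin 2 ⊕ Fin 2) (ZMod 5) :=
  fromBlocks !![1, 0; 0, 0] !![1, 0; 0, 1] !![0, 0; 0, -1] !![1, 0; 0, -1]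

/-- a symplectic matrix -/
def uM : Matrix (Fin 2 ⊕ Fin 2) (Fin 2 ⊕ Fin 2) (ZMod 5) := fromBlocks 1 0 !![0, 0; 0, 1] 1

/-- a symplectic matrix -/
def vM : Matrix (Fin 2 ⊕ Fin 2) (Fin 2 ⊕ Fin 2) (ZMod 5) := fromBlocks 1 0 !![1, 0; 0, 0] 1

theorem sM_mem : sM * J (Fin 2) (ZMod 5) * sMᵀ = J (Fin 2) (ZMod 5) := by decide +kernel
theorem uM_mem : uM * J (Fin 2) (ZMod 5) * uMᵀ = J (Fin 2) (ZMod 5) := by decide +kernel
theorem vM_mem : vM * J (Fin 2) (ZMod 5) * vMᵀ = J (Fin 2) (ZMod 5) := by decide +kernel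

theorem s15 : sM ^ 15 = 1 := by decide +kernel

theorem s5 : sM ^ 5 * uM ≠ uM * sM ^ 5 := by decide +kernel

theorem s3 : sM ^ 3 * vM ≠ vM * sM ^ 3 := by decide +kernel

theorem s45' : HasOrd (PSp 2 (ZMod 5)) 15 := by
  refine ord_mk (G := symplecticGroup (Fin 2) (ZMod 5)) (x := ⟨sM, (SymplecticGroup.mem_iff (A := sM)).2 sM_mem⟩)
    (u := ⟨uM, (SymplecticGroup.mem_iff (A := uM)).2 uM_mem⟩)
    (v := ⟨vM, (SymplecticGroup.mem_iff (A := vM)).2 vM_mem⟩) (Subtype.ext s15) ?_ ?_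
  · intro h
    exact s5 (congrArg Subtype.val h)
  · intro h
    exact s3 (congrArg Subtype.val h)

theorem s45 {F : Type} [Field F] [Fintype F] (hF : Fintype.card F = 5) : HasOrd (PSp 2 F) 15 :=
  s45'.congr (pspCongr 2 (FiniteField.ringEquivOfCardEq (K := ZMod 5) (K' := F) (by rw [hF, ZMod.card])))

/-! ### `PSU₃(4)` -/

theorem u34 {F : Type} [Field F] [Fintype F] (hF : Fintype.card F = 4 ^ 2) : HasOrd (PSU 3 F 4) 15 := by
  obtain ⟨H, h⟩ := Cfsg.Agent.H783.U34B.exists_fct (K := F) (by rw [hF]; norm_num)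
  have := h.finΩ
  have : Nontrivial (PSU 3 F 4 ⧸ H) := Finite.one_lt_card_iff_nontrivial.1 (by rw [h.cardΩ]; norm_num)
  obtain ⟨a, b, hab⟩ := exists_pair_ne (PSU 3 F 4 ⧸ H)
  obtain ⟨c, hc, -⟩ := h.cyc a b hab
  exact ⟨c, hc⟩

/-! ### `PSL₂(25)` -/

theorem charP_five {F : Type} [Field F] [Fintype F] (hF : Fintype.card F = 25) : CharP F 5 := by
  obtain ⟨p, hp⟩ := CharP.exists F
  obtain ⟨n, hpp, hn⟩ := FiniteField.card F p
  have h1 : p ∣ 5 ^ 2 := by
    rw [show (5 : ℕ) ^ 2 = 25 from rfl, ← hF, hn]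
    exact dvd_pow_self p n.ne_zero
  have h2 : p = 5 := (Nat.prime_dvd_prime_iff_eq hpp Nat.prime_five).1 (hpp.dvd_of_dvd_pow h1)
  rwa [h2] at hp

theorem l25 {F : Type} [Field F] [Fintype F] (hF : Fintype.card F = 25) :
    ¬ HasOrd (Matrix.ProjectiveSpecialLinearGroup (Fin 2) F) 8 := by
  rintro ⟨g, hg⟩
  have hp : Fact (Nat.Prime 5) := ⟨Nat.prime_five⟩
  have hc := charP_five hF
  have h1 := Cfsg.Agent.ClassicalGeometry.PSL2ElemOrder.orderOf_dvd hF 5 g (by rw [hg]; norm_num)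
  rw [hg] at h1
  revert h1
  decide

end Cfsg.Agent.H369.Ti.Elts
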